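import Mathlib
import Cfsg.Agent.Lib.Compute.OutFinal
import Cfsg.Agent.Lib.Sporadic.Fi22Out.Data

/-! The kernel checks for the outer automorphism group of the group of Fischer. -/

set_option autoImplicit false
set_option maxRecDepth 100000

namespace Cfsg.Agent.Lib.Sporadic.Fi22Out.Check

open Cfsg.Agent.Lib.Compute.PermCert Cfsg.Agent.Lib.Compute.OutChain Cfsg.Agent.Lib.Compute.OutFinal
open Cfsg.Agent.Lib.Sporadic.Fi22Out.Data

local notation "W" => (12 : Nat)
local notation "M" => (4095 : Nat)
local notation "NN" => (3510 : Nat)
local notation "TW" => (24 : Nat)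
local notation "TM" => (16777215 : Nat)
local notation "DD" => (12 : Nat)

theorem chainA_ok : chkChainF W M NN TW TM DD (lrlvA.map Prod.fst) = true := by decide +kernel
theorem chainB_ok : chkChainF W M NN TW TM DD (lrlvB.map Prod.fst) = true := by decide +kernel
theorem ordA : ordC (lrlvA.map Prod.fst) = 64561751654400 := by decide +kernel
theorem ordB : ordC (lrlvB.map Prod.fst) = 64561751654400 := by decide +kernel
theorem ruA : rulesOK NN (gt W M piE) [] lrlvA = true := by decide +kernel
theorem ruB : rulesOK NN (gt W M rhoE) [] lrlvB = true := by decide +kernel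
theorem sA : searchF W M NN TW TM DD (iterF (gt W M piE) 3)
    (conjLeafQ W M piE rhoE 11 5 (baseL (lrlvA.map Prod.fst))) lrlvA id id = true := by decide +kernel
theorem sI : searchF W M NN TW TM DD (gi W M piE) (notSol NN DD (gt W M piE) (gi W M piE)) lrlvA id id = true := by
  decide +kernel
theorem sB : searchF W M NN TW TM DD (gt W M rhoE)
    (finLeafT W M piE rhoE yE [sE] kills (baseL (lrlvB.map Prod.fst))) lrlvB id id = true := by decide +kernel
theorem kF : killsOK NN DD (gt W M piE) (gt W M rhoE) (gt W M yE) kills = true := by decide +kernel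
theorem vP : validB W M NN piE = true := by decide +kernel
theorem vR : validB W M NN rhoE = true := by decide +kernel
theorem vY : validB W M NN yE = true := by decide +kernel
theorem vT : validB W M NN tE = true := by decide +kernel
theorem vS : validB W M NN sE = true := by decide +kernel
theorem siftP : siftF W M NN TW TM DD (lrlvA.map Prod.fst) (gt W M piE) = true := by decide +kernel
theorem siftR : siftF W M NN TW TM DD (lrlvA.map Prod.fst) (gt W M rhoE) = true := by decide +kernel
theorem siftY : siftF W M NN TW TM DD (lrlvA.map Prod.fst) (gt W M yE) = true := by decide +kernel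
theorem siftS : siftF W M NN TW TM DD (lrlvA.map Prod.fst) (gt W M sE) = true := by decide +kernel
theorem siftTR : siftF W M NN TW TM DD (lrlvA.map Prod.fst)
    (fun i => gt W M tE (gt W M rhoE (gi W M tE i))) = true := by decide +kernel
theorem siftTR' : siftF W M NN TW TM DD (lrlvA.map Prod.fst)
    (fun i => gi W M tE (gt W M rhoE (gt W M tE i))) = true := by decide +kernel
theorem siftTY : siftF W M NN TW TM DD (lrlvA.map Prod.fst)
    (fun i => gt W M tE (gt W M yE (gi W M tE i))) = true := by decide +kernel
theorem siftTY' : siftF W M NN TW TM DD (lrlvA.map Prod.fst)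
    (fun i => gi W M tE (gt W M yE (gt W M tE i))) = true := by decide +kernel
theorem powP : allN (fun i => Nat.beq (iterF (gt W M piE) 11 i) i) NN DD = true := by decide +kernel
theorem powR : allN (fun i => Nat.beq (iterF (gt W M rhoE) 5 i) i) NN DD = true := by decide +kernel
theorem relR : allN (fun i => Nat.beq (gt W M rhoE (gt W M piE i))
    (iterF (gt W M piE) 3 (gt W M rhoE i))) NN DD = true := by decide +kernel
theorem invTP : allN (fun i => Nat.beq (gt W M tE (gi W M piE i)) (gt W M piE (gt W M tE i))) NN DD = true := by
  decide +kernel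
theorem commSP : allN (fun i => Nat.beq (gt W M sE (gt W M piE i)) (gt W M piE (gt W M sE i))) NN DD = true := by
  decide +kernel
theorem commSR : allN (fun i => Nat.beq (gt W M sE (gt W M rhoE i)) (gt W M rhoE (gt W M sE i))) NN DD = true := by
  decide +kernel
theorem commYR : allN (fun i => Nat.beq (gt W M yE (gt W M rhoE i)) (gt W M rhoE (gt W M yE i))) NN DD = true := by
  decide +kernel

end Cfsg.Agent.Lib.Sporadic.Fi22Out.Check
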