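import Mathlib
import Cfsg.Agent.Lib.Sporadic.Fi22Out.Check
import Cfsg.Agent.S1696

/-! The outer automorphism group of the group of Fischer. -/

set_option autoImplicit false

namespace Cfsg.Agent.Lib.Sporadic.Fi22Out.Main

open Cfsg Cfsg.Agent.Lib.Compute.PermCert Cfsg.Agent.Lib.Compute.OutChain Cfsg.Agent.Lib.Compute.OutFinal
open Cfsg.Agent.Lib.Compute.ToddCoxeterCore Cfsg.Agent.Lib.Compute.ToddCoxeterPresented
  Cfsg.Agent.Lib.Compute.TCFast Cfsg.Agent.Lib.Compute.TCChain
open Cfsg.Agent.Lib.Compute.TC Cfsg.Agent.Lib.Compute.PermOut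
open Cfsg.Agent.Lib.Sporadic.Fi22Out.Data Cfsg.Agent.Lib.Sporadic.Fi22Out.Check

/-- The homomorphism from the presented group. -/
noncomputable abbrev phi := phiG Fi22a.hR Fi22a.small Fi22a.big Fi22a.hgens

/-- The group as a permutation group. -/
noncomputable def K : Subgroup (Equiv.Perm (Fin 3510)) := phi.range

theorem card_K : Nat.card K = 64561751654400 := by
  have h1 : Nat.card K = Nat.card (PresentedGroup Fi22a.RR) :=
    (Nat.card_congr (MonoidHom.ofInjective S1696.inj.1).toEquiv).symm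
  rw [h1, S1696.inj.2]

theorem out_eq : Nat.card (Out Cfsg.Spor.Fi22) = Nat.card (Out K) :=
  card_out_congr (A := PresentedGroup Fi22a.RR) (MonoidHom.ofInjective S1696.inj.1)

theorem hd : 3510 ≤ 2 ^ 12 := by norm_num

/-- The values of the generators. -/
noncomputable def ev (j i : Nat) : Nat := ev0 Fi22a.cfg j true i

theorem ev_spec (j : Nat) : ∃ x ∈ K, ∀ i : Fin 3510, ev j i = x i :=
  ⟨phi (elG Fi22a.D Fi22a.RR j), ⟨_, rfl⟩, fun i =>
    (ev0_ok Fi22a.hR Fi22a.small Fi22a.big Fi22a.hgens j i).1⟩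

theorem gens_ok : gensOK 12 4095 3510 12 ev 0 lvA0.gens = true := by decide +kernel

theorem hA : ChainFor 12 4095 3510 24 16777215 K (lrlvA.map Prod.fst) := by
  refine ChainFor.of_fast hd chainA_ok ?_ (by rw [ordA, card_K])
  have hc := (chkChainF_eq hd (tw := 24) (tm := 16777215) (w := 12) (m := 4095) (ls := lrlvA.map Prod.fst)).symm.trans chainA_ok
  exact gens_le hd ev_spec (hdG_valid hc) gens_ok

theorem mP : permOf 12 4095 3510 piE ∈ K := hA.mem_of_sift hd (gt_eq vP) siftP
theorem mR : permOf 12 4095 3510 rhoE ∈ K := hA.mem_of_sift hd (gt_eq vR) siftR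
theorem mY : permOf 12 4095 3510 yE ∈ K := hA.mem_of_sift hd (gt_eq vY) siftY
theorem mS : permOf 12 4095 3510 sE ∈ K := hA.mem_of_sift hd (gt_eq vS) siftS

theorem hB : ChainFor 12 4095 3510 24 16777215 K (lrlvB.map Prod.fst) := by
  refine ChainFor.of_fast hd chainB_ok ?_ (by rw [ordB, card_K])
  refine (Subgroup.closure_le _).mpr ?_
  rintro _ ⟨e, he, rfl⟩
  have he' : e ∈ [piE, rhoE, yE] := he
  simp only [List.mem_cons, List.not_mem_nil, or_false] at he'
  rcases he' with rfl | rfl | rfl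
  · exact mP
  · exact mR
  · exact mY

instance fact11 : Fact (Nat.Prime 11) := ⟨by norm_num⟩

/-- The outer automorphism group of the group of Fischer. -/
theorem card_out_Fi22 : Nat.card (Out Cfsg.Spor.Fi22) = 2 := by
  rw [out_eq]
  refine card_out_two_inv (p := 11) (r := 3) (q := 5) (zk := 1) (pe := piE) (re := rhoE) (ye := yE) (te := tE) (ze := rhoE)
    (kills := kills) (ts := [sE]) hA hB hd rfl vP vR vY vT ?_ ?_ ?_ ?_ ?_ ?_ ?_ ?_ ?_ ?_ ?_ ?_ vR ?_ ?_ ruA sA sI ruB sB kF
  · rw [card_K]; norm_num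
  · exact pow_of_check vP hd powP
  · exact ne_one_of_point vP (i := 0) (by norm_num) (by decide +kernel)
  · exact rel_of_check vP vR hd relR
  · exact pow_of_check vR hd powR
  · exact hexp2_of_check (by norm_num) (by decide)
  · refine eq_of_check (fun i => ?_) (fun i => ?_) hd invTP
    · rw [Equiv.Perm.mul_apply, gi_eq vP, gt_eq vT]
    · rw [Equiv.Perm.mul_apply, gt_eq vT, gt_eq vP]
  · exact hA.mem_of_sift hd (conj_rep vT vR) siftTR
  · exact hA.mem_of_sift hd (conj_rep' vT vR) siftTR'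
  · exact hA.mem_of_sift hd (conj_rep vT vY) siftTY
  · exact hA.mem_of_sift hd (conj_rep' vT vY) siftTY'
  · intro t ht
    simp only [List.mem_singleton] at ht
    subst ht
    exact ⟨vS, mS, comm_of_check vS vP hd commSP, comm_of_check vS vR hd commSR⟩
  · exact (pow_one _).symm
  · exact comm_of_check vY vR hd commYR

end Cfsg.Agent.Lib.Sporadic.Fi22Out.Main
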